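import Groth.Agent.Lib.Splitting.Basic
import Mathlib

/-!
# The staircase monomial basis over the symmetric polynomials
-/

set_option linter.style.haveILetI false

universe u

open Polynomial GrothLib.Splitting

namespace GrothLib.SymBasis7

/-- The exponents `d` with `d i < r - i`. -/
abbrev Stair (r : ℕ) := Π i : Fin r, Fin (r - (i : ℕ))

/-- The monomial `t ^ d`. -/
noncomputable def mono (R : Type u) [CommRing R] (r : ℕ) (d : Stair r) : MvPolynomial (Fin r) R :=
  ∏ i : Fin r, MvPolynomial.X i ^ ((d i : ℕ))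

/-- Split off the first exponent. -/
def stairEquiv (r : ℕ) : Stair (r + 1) ≃ Fin (r + 1) × Stair r where
  toFun d := (Fin.cast (by simp) (d 0), fun i => Fin.cast (by simp) (d i.succ))
  invFun z := Fin.cases (motive := fun i => Fin (r + 1 - (i : ℕ))) (Fin.cast (by simp) z.1) (fun i => Fin.cast (by simp) (z.2 i))
  left_inv d := by funext i; refine Fin.cases ?_ (fun j => ?_) i <;> exact Fin.ext rfl
  right_inv z := Prod.ext (Fin.ext rfl) (funext fun i => Fin.ext rfl)

instance : Unique (Stair 0) := Pi.uniqueOfIsEmpty _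

variable {R : Type u} [CommRing R]

theorem basis_SA : ∀ (r : ℕ) (R : Type u) [CommRing R] [Nontrivial R] (p : R[X]), p.Monic → p.natDegree = r →
    ∃ b : Module.Basis (Stair r) R (SA r p), ∀ d, b d = Ideal.Quotient.mk (relIdeal r p) (mono R r d) := by
  intro r
  induction r with
  | zero =>
    intro R _ _ p _ _
    have h : relIdeal 0 p = ⊥ := by
      rw [relIdeal, Set.range_eq_empty, Ideal.span_empty]
    let ee := (MvPolynomial.isEmptyAlgEquiv R (Fin 0)).symm.trans
        ((AlgEquiv.quotientBot R (MvPolynomial (Fin 0) R)).symm.trans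
          (Ideal.quotientEquivAlgOfEq R h.symm))
    refine ⟨(Module.Basis.singleton (Stair 0) R).map ee.toLinearEquiv, fun d => ?_⟩
    rw [Module.Basis.map_apply, Module.Basis.singleton_apply, mono, Fin.prod_univ_zero]
    show ee 1 = _
    rw [map_one ee, map_one]
  | succ r ih =>
    intro R _ _ p hp hdeg
    let S := AdjoinRoot p
    let pb := AdjoinRoot.powerBasis' hp
    have hdim : pb.dim = r + 1 := hdeg
    haveI : Nonempty (Fin pb.dim) := ⟨⟨0, by omega⟩⟩
    haveI : Nontrivial S := ⟨⟨pb.basis ⟨0, by omega⟩, 0, pb.basis.ne_zero _⟩⟩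
    let pS : S[X] := p.map (AdjoinRoot.of p)
    have hroot : pS.IsRoot (AdjoinRoot.root p) := by
      rw [IsRoot, eval_map, AdjoinRoot.eval₂_root]
    let q := pS /ₘ (X - C (AdjoinRoot.root p))
    have hq : (X - C (AdjoinRoot.root p)) * q = pS := mul_divByMonic_eq_iff_isRoot.mpr hroot
    have hqm : q.Monic := (monic_X_sub_C (AdjoinRoot.root p)).of_mul_monic_left (by rw [hq]; exact hp.map _)
    have hqdeg : q.natDegree = r := by
      have := congrArg natDegree hq
      rw [(monic_X_sub_C _).natDegree_mul hqm, natDegree_X_sub_C,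
        hp.natDegree_map (AdjoinRoot.of p), hdeg] at this
      omega
    obtain ⟨β, hβ⟩ := ih S q hqm hqdeg
    -- the two mutually inverse maps
    let φ₀ : MvPolynomial (Fin (r + 1)) R →ₐ[R] SA r q :=
      MvPolynomial.aeval (Fin.cons (algebraMap S (SA r q) (AdjoinRoot.root p))
        fun j => Ideal.Quotient.mk _ (MvPolynomial.X j))
    have hφ₀ : ∀ i, φ₀.toRingHom (rel (r + 1) p i) = 0 := by
      refine (rel_killed_iff hp hdeg φ₀.toRingHom).mpr ?_
      rw [Fin.prod_univ_succ]
      have e : φ₀.toRingHom.comp MvPolynomial.C = (algebraMap S (SA r q)).comp (AdjoinRoot.of p) := by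
        refine RingHom.ext fun x => ?_
        show φ₀ (MvPolynomial.C x) = _
        rw [MvPolynomial.algHom_C]
        rfl
      rw [e, ← Polynomial.map_map]
      show _ = pS.map _
      rw [← hq, Polynomial.map_mul, Polynomial.map_sub, Polynomial.map_X, Polynomial.map_C,
        ← prod_root_eq hqm hqdeg]
      congr 1
      · simp [φ₀]
      · refine Finset.prod_congr rfl fun j _ => ?_
        simp [φ₀]
    let φ : SA (r + 1) p →ₐ[R] SA r q := Ideal.Quotient.liftₐ _ φ₀ (by
      intro x hx
      refine (Ideal.span_le (I := RingHom.ker φ₀.toRingHom)).mpr ?_ hx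
      rintro _ ⟨i, rfl⟩
      exact hφ₀ i)
    have hA := prod_root_eq hp hdeg
    rw [Fin.prod_univ_succ] at hA
    let x : Fin (r + 1) → SA (r + 1) p := fun j => Ideal.Quotient.mk _ (MvPolynomial.X j)
    have hx0 : p.eval₂ ((Algebra.ofId R (SA (r + 1) p) : R →ₐ[R] SA (r + 1) p) : R →+* SA (r + 1) p) (x 0) = 0 := by
      show p.eval₂ (algebraMap R (SA (r + 1) p)) (x 0) = 0
      rw [← eval_map, ← hA, eval_mul, eval_sub, eval_X, eval_C, sub_self, zero_mul]
    let β₀ : S →ₐ[R] SA (r + 1) p := AdjoinRoot.liftAlgHom p (Algebra.ofId R _) (x 0) hx0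
    have hβ₀ : β₀ (AdjoinRoot.root p) = x 0 := AdjoinRoot.liftAlgHom_root _ _ _ _
    let ψ₀ : MvPolynomial (Fin r) S →ₐ[R] SA (r + 1) p := MvPolynomial.aevalTower β₀ fun j => x j.succ
    have hψ₀ : ∀ i, ψ₀.toRingHom (rel r q i) = 0 := by
      refine (rel_killed_iff hqm hqdeg ψ₀.toRingHom).mpr ?_
      have e : ψ₀.toRingHom.comp MvPolynomial.C = β₀.toRingHom :=
        RingHom.ext fun s => MvPolynomial.aevalTower_C _ _ _
      have hX : ∀ j, ψ₀.toRingHom (MvPolynomial.X j) = x j.succ := fun j =>
        MvPolynomial.aevalTower_X _ _ _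
      rw [e]
      simp only [hX]
      apply (monic_X_sub_C (x 0)).isRegular.left
      show (X - C (x 0)) * _ = (X - C (x 0)) * _
      rw [hA]
      have e2 : (X - C (x 0)) = (X - C (AdjoinRoot.root p)).map β₀.toRingHom := by
        rw [Polynomial.map_sub, Polynomial.map_X, Polynomial.map_C]
        exact congrArg (fun t => X - C t) hβ₀.symm
      rw [e2, ← Polynomial.map_mul, hq, Polynomial.map_map]
      congr 1
      exact (AlgHom.comp_algebraMap β₀).symm
    let ψ : SA r q →ₐ[R] SA (r + 1) p := Ideal.Quotient.liftₐ _ ψ₀ (by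
      intro y hy
      refine (Ideal.span_le (I := RingHom.ker ψ₀.toRingHom)).mpr ?_ hy
      rintro _ ⟨i, rfl⟩
      exact hψ₀ i)
    have h1 : ψ.comp φ = AlgHom.id R _ := by
      refine Ideal.Quotient.algHom_ext R (MvPolynomial.algHom_ext fun j => ?_)
      show ψ (φ₀ (MvPolynomial.X j)) = x j
      rw [show φ₀ (MvPolynomial.X j) = _ from MvPolynomial.aeval_X _ _]
      refine Fin.cases ?_ (fun i => ?_) j
      · rw [Fin.cons_zero]
        show ψ₀ (MvPolynomial.C (AdjoinRoot.root p)) = _
        rw [MvPolynomial.aevalTower_C, hβ₀]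
      · rw [Fin.cons_succ]
        exact MvPolynomial.aevalTower_X _ _ _
    have h2 : φ.comp ψ = AlgHom.id R _ := by
      refine Ideal.Quotient.algHom_ext R ?_
      refine AlgHom.coe_ringHom_injective (MvPolynomial.ringHom_ext (fun s => ?_) fun j => ?_)
      · show φ (ψ₀ (MvPolynomial.C s)) = Ideal.Quotient.mk _ (MvPolynomial.C s)
        rw [MvPolynomial.aevalTower_C]
        have : φ.comp β₀ = IsScalarTower.toAlgHom R S (SA r q) := by
          refine AdjoinRoot.algHom_ext ?_
          show φ (β₀ _) = _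
          rw [hβ₀]
          show φ₀ (MvPolynomial.X 0) = _
          rw [show φ₀ (MvPolynomial.X 0) = _ from MvPolynomial.aeval_X _ _, Fin.cons_zero]
          rfl
        exact AlgHom.congr_fun this s
      · show φ (ψ₀ (MvPolynomial.X j)) = Ideal.Quotient.mk _ (MvPolynomial.X j)
        rw [MvPolynomial.aevalTower_X]
        show φ₀ (MvPolynomial.X j.succ) = _
        rw [show φ₀ (MvPolynomial.X j.succ) = _ from MvPolynomial.aeval_X _ _, Fin.cons_succ]
    let e := AlgEquiv.ofAlgHom φ ψ h2 h1
    refine ⟨((pb.basis.smulTower β).reindex (((finCongr hdim).prodCongr (Equiv.refl _)).trans (stairEquiv r).symm)).map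
      e.symm.toLinearEquiv, fun d => ?_⟩
    rw [Module.Basis.map_apply, Module.Basis.reindex_apply, Equiv.symm_trans_apply, Equiv.symm_symm, Module.Basis.smulTower_apply,
      PowerBasis.coe_basis]
    show ψ _ = _
    rw [AdjoinRoot.powerBasis'_gen]
    show ψ ((AdjoinRoot.root p ^ (d 0 : ℕ)) • β (stairEquiv r d).2) = _
    rw [hβ]
    refine (congrArg ψ (Algebra.smul_def (A := SA r q) (AdjoinRoot.root p ^ (d 0 : ℕ)) _)).trans ((map_mul ψ _ _).trans ?_)
    show ψ (algebraMap S (SA r q) (AdjoinRoot.root p ^ (d 0 : ℕ))) * ψ (Ideal.Quotient.mk _ (mono S r (stairEquiv r d).2)) = _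
    have h0 : ψ (algebraMap S (SA r q) (AdjoinRoot.root p ^ (d 0 : ℕ))) = x 0 ^ (d 0 : ℕ) := by
      show ψ₀ (MvPolynomial.C (AdjoinRoot.root p ^ (d 0 : ℕ))) = _
      rw [MvPolynomial.aevalTower_C, map_pow, hβ₀]
    have h3 : ψ (Ideal.Quotient.mk _ (mono S r (stairEquiv r d).2)) = ∏ j : Fin r, x j.succ ^ ((stairEquiv r d).2 j : ℕ) := by
      show ψ₀ (mono S r (stairEquiv r d).2) = _
      simp [mono, ψ₀, map_prod, map_pow]
    rw [h0, h3, mono, map_prod, Fin.prod_univ_succ]
    simp only [map_pow]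
    rfl


theorem basis_SA' (r : ℕ) (a : Fin r → R) :
    ∃ b : Module.Basis (Stair r) R
      (MvPolynomial (Fin r) R ⧸ Ideal.span (Set.range fun i : Fin r =>
        MvPolynomial.esymm (Fin r) R ((i : ℕ) + 1) - MvPolynomial.C (a i))),
      ∀ d, b d = Ideal.Quotient.mk _ (mono R r d) := by
  rcases subsingleton_or_nontrivial R with hR | hR
  · haveI := Module.subsingleton R (MvPolynomial (Fin r) R ⧸ Ideal.span (Set.range fun i : Fin r =>
      MvPolynomial.esymm (Fin r) R ((i : ℕ) + 1) - MvPolynomial.C (a i)))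
    exact ⟨Module.Basis.ofEquivFun
      { toFun := fun _ => 0, map_add' := fun _ _ => by simp, map_smul' := fun _ _ => by simp
        invFun := fun _ => 0, left_inv := fun _ => Subsingleton.elim _ _
        right_inv := fun _ => Subsingleton.elim _ _ }, fun d => Subsingleton.elim _ _⟩
  let c : Fin r → R := fun i => (-1) ^ (r - (i : ℕ)) * a i.rev
  let p : R[X] := X ^ r + ∑ i : Fin r, C (c i) * X ^ (i : ℕ)
  have hlow : (∑ i : Fin r, C (c i) * X ^ (i : ℕ)).degree < (r : WithBot ℕ) := degree_sum_fin_lt c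
  have hp : p.Monic := monic_X_pow_add hlow
  have hdeg : p.natDegree = r := natDegree_eq_of_degree_eq_some (by
    show (X ^ r + _).degree = _
    rw [degree_add_eq_left_of_degree_lt] <;> rw [degree_X_pow]; exact hlow)
  have hcoef : ∀ i : Fin r, p.coeff i = c i := by
    intro i
    simp [p, Polynomial.coeff_X_pow, i.2.ne, Fin.val_inj]
  have hrel : ∀ i : Fin r, rel r p i = (-1) ^ (r - (i : ℕ)) *
      (MvPolynomial.esymm (Fin r) R ((i.rev : ℕ) + 1) - MvPolynomial.C (a i.rev)) := by
    intro i
    have h := Multiset.prod_X_sub_C_coeff ((Finset.univ : Finset (Fin r)).val.map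
      (MvPolynomial.X : Fin r → MvPolynomial (Fin r) R)) (k := (i : ℕ)) (by simp)
    rw [Multiset.map_map, ← Finset.prod_eq_multiset_prod, Multiset.card_map, Finset.card_val,
      Finset.card_univ, Fintype.card_fin, ← MvPolynomial.esymm_eq_multiset_esymm] at h
    have he : ((i.rev : Fin r) : ℕ) + 1 = r - i := by rw [Fin.val_rev]; omega
    rw [rel, univProd, hcoef, he, mul_sub]
    refine congrArg₂ (· - ·) h ?_
    simp [c]
  have hI : relIdeal r p = Ideal.span (Set.range fun i : Fin r =>
      MvPolynomial.esymm (Fin r) R ((i : ℕ) + 1) - MvPolynomial.C (a i)) := by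
    apply le_antisymm <;> rw [Ideal.span_le]
    · rintro _ ⟨i, rfl⟩
      rw [SetLike.mem_coe, hrel]
      exact Ideal.mul_mem_left _ _ (Ideal.subset_span ⟨i.rev, rfl⟩)
    · rintro _ ⟨i, rfl⟩
      have hu : IsUnit ((-1 : MvPolynomial (Fin r) R) ^ (r - (i.rev : ℕ))) := isUnit_one.neg.pow _
      rw [SetLike.mem_coe, ← (relIdeal r p).unit_mul_mem_iff_mem hu]
      have h := hrel i.rev
      rw [Fin.rev_rev] at h
      show (-1) ^ (r - (i.rev : ℕ)) * (_ - _) ∈ _
      rw [← h]
      exact Ideal.subset_span ⟨_, rfl⟩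
  obtain ⟨b, hb⟩ := basis_SA r R p hp hdeg
  refine ⟨b.map (Ideal.quotientEquivAlgOfEq R hI).toLinearEquiv, fun d => ?_⟩
  rw [Module.Basis.map_apply, hb]
  rfl


theorem basis_over_esymm (r : ℕ) :
    Function.Bijective (fun p : Stair r → MvPolynomial (Fin r) R =>
        ∑ k : Stair r,
          (MvPolynomial.aeval (fun i : Fin r => MvPolynomial.esymm (Fin r) R ((i : ℕ) + 1))) (p k) * mono R r k) := by
  let T := MvPolynomial (Fin r) R
  let f : T →ₐ[R] T := MvPolynomial.aeval (fun i : Fin r => MvPolynomial.esymm (Fin r) R ((i : ℕ) + 1))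
  obtain ⟨β, hβ⟩ := basis_SA' (R := T) r (fun i => MvPolynomial.X i)
  let I : Ideal (MvPolynomial (Fin r) T) := Ideal.span (Set.range fun i : Fin r =>
    MvPolynomial.esymm (Fin r) T ((i : ℕ) + 1) - MvPolynomial.C (MvPolynomial.X i))
  let F₀ : MvPolynomial (Fin r) T →+* T := MvPolynomial.eval₂Hom f.toRingHom MvPolynomial.X
  have hesymm : ∀ n, F₀ (MvPolynomial.esymm (Fin r) T n) = MvPolynomial.esymm (Fin r) R n := fun n => by
    simp [F₀, MvPolynomial.esymm, map_sum, map_prod]
  have hF : ∀ x ∈ I, F₀ x = 0 := by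
    refine fun x hx => (Ideal.span_le (I := RingHom.ker F₀)).mpr ?_ hx
    rintro _ ⟨i, rfl⟩
    show F₀ _ = 0
    rw [map_sub, hesymm]
    simp [F₀, f, T]
  let F : (MvPolynomial (Fin r) T ⧸ I) →+* T := Ideal.Quotient.lift I F₀ hF
  let G : T →+* (MvPolynomial (Fin r) T ⧸ I) := MvPolynomial.eval₂Hom
    ((Ideal.Quotient.mk I).comp (MvPolynomial.C.comp MvPolynomial.C)) fun j => Ideal.Quotient.mk I (MvPolynomial.X j)
  have hFG : F.comp G = RingHom.id T := by
    refine MvPolynomial.ringHom_ext (fun c => ?_) fun j => ?_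
    · simp [F, G, F₀, f, T]
    · simp [F, G, F₀, T]
  have hGesymm : ∀ n, G (MvPolynomial.esymm (Fin r) R n) = Ideal.Quotient.mk I (MvPolynomial.esymm (Fin r) T n) := fun n => by
    simp [G, MvPolynomial.esymm, map_sum, map_prod, T]
  have hGF : G.comp F = RingHom.id _ := by
    refine Ideal.Quotient.ringHom_ext (MvPolynomial.ringHom_ext (fun t => ?_) fun j => ?_)
    · show G (F₀ (MvPolynomial.C t)) = Ideal.Quotient.mk I (MvPolynomial.C t)
      have : G.comp f.toRingHom = (Ideal.Quotient.mk I).comp MvPolynomial.C := by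
        refine MvPolynomial.ringHom_ext (fun c => ?_) fun i => ?_
        · simp [G, f, T]
        · show G (f (MvPolynomial.X i)) = _
          rw [show f (MvPolynomial.X i) = _ from MvPolynomial.aeval_X _ i, hGesymm]
          exact Ideal.Quotient.eq.mpr (Ideal.subset_span ⟨i, rfl⟩)
      have e : F₀ (MvPolynomial.C t) = f t := by simp [F₀]
      rw [e]
      exact RingHom.congr_fun this t
    · simp [F, G, F₀, T]
  have hFbij : Function.Bijective F :=
    ⟨Function.LeftInverse.injective (g := G) fun y => RingHom.congr_fun hGF y,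
      Function.RightInverse.surjective (g := G) fun y => RingHom.congr_fun hFG y⟩
  have hb : ∀ k, F (β k) = mono R r k := fun k => by
    rw [hβ]
    show F₀ _ = _
    simp [mono, F₀, T, map_prod]
  simp only [← hb]
  have e : (fun p : Stair r → T => ∑ k, f (p k) * F (β k)) = F ∘ β.equivFun.symm := by
    funext p
    rw [Function.comp_apply, Module.Basis.equivFun_symm_apply, map_sum]
    refine Finset.sum_congr rfl fun k _ => ?_
    have hsm : p k • β k = Ideal.Quotient.mk I (MvPolynomial.C (p k)) * β k := by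
      obtain ⟨y, hy⟩ := Ideal.Quotient.mk_surjective (I := I) (β k)
      rw [← hy, ← map_mul, ← MvPolynomial.smul_eq_C_mul]
      rfl
    rw [hsm, map_mul]
    congr 1
    show f (p k) = F₀ (MvPolynomial.C (p k))
    simp [F₀]
  exact e ▸ hFbij.comp β.equivFun.symm.bijective


end GrothLib.SymBasis7

namespace GrothLib.SymBasis7

variable {R : Type u} [CommRing R] {n : ℕ} (a : Fin n → R) (J : Ideal R)

/-- The ideal of relations `e_i(t) - a_i`. -/
noncomputable abbrev relI : Ideal (MvPolynomial (Fin n) R) :=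
  Ideal.span (Set.range fun i : Fin n => MvPolynomial.esymm (Fin n) R ((i : ℕ) + 1) - MvPolynomial.C (a i))

theorem exists_coords :
    ∃ c : MvPolynomial (Fin n) R → Stair n → R,
      (∀ x, x - ∑ d, MvPolynomial.C (c x d) * mono R n d ∈ relI a) ∧
      (∀ j : Stair n → R, c (∑ d, MvPolynomial.C (j d) * mono R n d) = j) ∧
      ∀ x, x ∈ relI a ⊔ Ideal.map (MvPolynomial.C : R →+* MvPolynomial (Fin n) R) J ↔ ∀ d, c x d ∈ J := by
  classical
  obtain ⟨b, hb⟩ := basis_SA' n a
  let π := Ideal.Quotient.mk (relI a)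
  have hsum : ∀ j : Stair n → R, π (∑ d, MvPolynomial.C (j d) * mono R n d) = ∑ d, j d • b d := fun j => by
    rw [map_sum]
    refine Finset.sum_congr rfl fun d _ => ?_
    rw [hb, map_mul]
    exact (Algebra.smul_def (A := MvPolynomial (Fin n) R ⧸ relI a) (j d) _).symm
  refine ⟨fun x d => b.repr (π x) d, fun x => ?_, fun j => ?_, fun x => ?_⟩
  · rw [← Ideal.Quotient.mk_eq_mk_iff_sub_mem]
    exact (b.sum_repr (π x)).symm.trans (hsum _).symm
  · funext d
    show b.repr (π (∑ d, MvPolynomial.C (j d) * mono R n d)) d = j d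
    rw [hsum, b.repr_sum_self]
  let P : Ideal (MvPolynomial (Fin n) R) :=
    { carrier := {x | ∀ d, b.repr (π x) d ∈ J}
      add_mem' := fun {x y} hx hy d => by rw [map_add, map_add]; exact J.add_mem (hx d) (hy d)
      zero_mem' := fun d => by rw [map_zero, map_zero]; exact J.zero_mem
      smul_mem' := fun y x hx d => by
        have e : π (y • x) = ∑ k, b.repr (π x) k • (π y * b k) := by
          rw [smul_eq_mul, map_mul]
          conv_lhs => rw [← b.sum_repr (π x), Finset.mul_sum]
          exact Finset.sum_congr rfl fun k _ => mul_smul_comm _ _ _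
        rw [e, map_sum, Finsupp.finsetSum_apply]
        exact J.sum_mem fun k _ => by
          rw [map_smul, Finsupp.smul_apply, smul_eq_mul]
          exact J.mul_mem_right _ (hx k) }
  constructor
  · intro hx
    have hle : relI a ⊔ Ideal.map (MvPolynomial.C : R →+* MvPolynomial (Fin n) R) J ≤ P := by
      refine sup_le (fun y hy d => ?_) (Ideal.map_le_iff_le_comap.2 fun r hr d => ?_)
      · rw [show π y = 0 from Ideal.Quotient.eq_zero_iff_mem.2 hy, map_zero]
        exact J.zero_mem
      · have e : π (MvPolynomial.C r) = r • (1 : MvPolynomial (Fin n) R ⧸ relI a) :=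
          (Algebra.algebraMap_eq_smul_one (A := MvPolynomial (Fin n) R ⧸ relI a) r)
        rw [e, map_smul, Finsupp.smul_apply, smul_eq_mul]
        exact J.mul_mem_right _ hr
    exact hle hx
  · intro hx
    have h1 : x - ∑ d, MvPolynomial.C (b.repr (π x) d) * mono R n d ∈ relI a := by
      rw [← Ideal.Quotient.mk_eq_mk_iff_sub_mem]
      exact (b.sum_repr (π x)).symm.trans (hsum _).symm
    have := Ideal.add_mem _ (Ideal.mem_sup_left (T := Ideal.map (MvPolynomial.C : R →+* MvPolynomial (Fin n) R) J) h1)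
      (Ideal.mem_sup_right (Ideal.sum_mem _ fun d (_ : d ∈ Finset.univ) => Ideal.mul_mem_right (mono R n d) _ (Ideal.mem_map_of_mem _ (hx d))))
    rwa [sub_add_cancel] at this

end GrothLib.SymBasis7
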